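import Groth.Agent.Sga7.H144.KQBasic
import Mathlib.RingTheory.Localization.FractionRing
import Mathlib.RingTheory.Ideal.Maximal

/-!
# `n`-th powers in the fraction field of `k[ℚ]`

`root`: an element of the fraction field of `k[ℚ]` (`k` algebraically closed of characteristic zero)
which is locally a unit times an `n`-th power is an `n`-th power.
-/

set_option autoImplicit false
universe u

open Polynomial
open scoped Classical

namespace Groth.Agent.Sga7.H144.KQRoot

open KQBasic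

variable (k : Type u) [Field k]

/-- `k[X] → k[ℚ]`, `X ↦ X^{1/N}`. -/
noncomputable def ev (N : ℕ) : k[X] →ₐ[k] AddMonoidAlgebra k ℚ :=
  (lvl k N).comp Polynomial.toLaurentAlg

theorem ev_apply (N : ℕ) (P : k[X]) : ev k N P = lvl k N (Polynomial.toLaurent P) := rfl

theorem ev_X (N : ℕ) : ev k N X = AddMonoidAlgebra.single (1 / (N : ℚ)) 1 := by
  rw [ev_apply, Polynomial.toLaurent_X, lvl_T]
  simp

theorem ev_injective {N : ℕ} (hN : 0 < N) : Function.Injective (ev k N) :=
  (lvl_injective k hN).comp Polynomial.toLaurent_injective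

theorem isUnit_ev_X (N : ℕ) : IsUnit (ev k N X) := by
  rw [ev_apply, Polynomial.toLaurent_X]
  exact (LaurentPolynomial.isUnit_T 1).map _

theorem ev_expand {N M : ℕ} (hN : 0 < N) (hM : 0 < M) (P : k[X]) :
    ev k (N * M) (expand k M P) = ev k N P := by
  have : (ev k (N * M)).comp (expand k M) = ev k N := by
    apply Polynomial.algHom_ext
    rw [AlgHom.comp_apply, expand_X, map_pow, ev_X, ev_X, AddMonoidAlgebra.single_pow, one_pow]
    congr 1
    have hN' : (N : ℚ) ≠ 0 := by positivity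
    have hM' : (M : ℚ) ≠ 0 := by positivity
    rw [nsmul_eq_mul]
    push_cast
    field_simp
  exact congrArg (fun F : k[X] →ₐ[k] AddMonoidAlgebra k ℚ => F P) this

theorem exists_clear {N : ℕ} {x : AddMonoidAlgebra k ℚ} (hx : x ∈ (lvl k N).range) :
    ∃ (s : ℕ) (P : k[X]), ev k N P = x * ev k N X ^ s := by
  obtain ⟨y, rfl⟩ := hx
  obtain ⟨s, P, h⟩ := LaurentPolynomial.exists_T_pow y
  refine ⟨s, P, ?_⟩
  rw [ev_apply, h, ev_apply, Polynomial.toLaurent_X, map_mul, ← map_pow, LaurentPolynomial.T_pow,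
    mul_one]
  rfl

theorem exists_root [IsAlgClosed k] {N M : ℕ} (hN : 0 < N) (hM : 0 < M)
    (q : Ideal (AddMonoidAlgebra k ℚ)) [hq : q.IsPrime] (α : k)
    (h : ev k N (X - C α) ∈ q) : ∃ β : k, β ^ M = α ∧ ev k (N * M) (X - C β) ∈ q := by
  rw [← ev_expand k hN hM, map_sub, expand_X, expand_C] at h
  have h1 : (X ^ M - C α : k[X]).Splits := IsAlgClosed.splits _
  have h2 := h1.eq_prod_roots
  rw [(monic_X_pow_sub_C α hM.ne').leadingCoeff, map_one, one_mul] at h2
  rw [h2, map_multiset_prod, Multiset.map_map] at h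
  obtain ⟨y, hy, hyq⟩ := (hq.multiset_prod_mem_iff_exists_mem _).1 h
  obtain ⟨β, hβ, rfl⟩ := Multiset.mem_map.1 hy
  refine ⟨β, ?_, hyq⟩
  have h3 := (mem_roots'.1 hβ).2
  rw [IsRoot.def, eval_sub, eval_pow, eval_X, eval_C, sub_eq_zero] at h3
  exact h3

theorem eval_ne_zero {N : ℕ} (q : Ideal (AddMonoidAlgebra k ℚ)) (β : k)
    (h : ev k N (X - C β) ∈ q) (Q : k[X]) (hQ : ev k N Q ∉ q) : ¬ Q.IsRoot β := by
  intro h0
  obtain ⟨R, rfl⟩ := dvd_iff_isRoot.2 h0
  apply hQ
  rw [map_mul]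
  exact q.mul_mem_right _ h

theorem exists_prime [IsAlgClosed k] {N : ℕ} (hN : 0 < N) (α : k) (hα : α ≠ 0) :
    ∃ q : Ideal (AddMonoidAlgebra k ℚ), q.IsPrime ∧ ev k N (X - C α) ∈ q := by
  have h : ev k N (X - C α) ∈ nonunits _ := by
    intro hu
    obtain ⟨w, hw⟩ := hu.exists_right_inv
    obtain ⟨M', hM', ⟨M, rfl⟩, hmem⟩ := exists_lvl k {w} N hN
    have hM : 0 < M := by
      rcases Nat.eq_zero_or_pos M with h0 | h0
      · subst h0; simp at hM'
      · exact h0
    obtain ⟨y, hy⟩ := hmem w (Finset.mem_singleton_self w)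
    obtain ⟨β, hβ⟩ := IsAlgClosed.exists_pow_nat_eq α hM
    have hβ0 : β ≠ 0 := by
      rintro rfl
      rw [zero_pow hM.ne'] at hβ
      exact hα hβ.symm
    have h1 : Polynomial.toLaurent (expand k M (X - C α)) * y = 1 := by
      apply lvl_injective k hM'
      rw [map_mul, map_one, ← ev_apply, ev_expand k hN hM]
      change _ * (lvl k (N * M)).toRingHom y = 1
      rw [hy, hw]
    have h2 := congrArg (LaurentPolynomial.eval₂ (RingHom.id k) (Units.mk0 β hβ0)) h1
    rw [map_mul, map_one, LaurentPolynomial.eval₂_toLaurent, Units.val_mk0, eval₂_id,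
      expand_eval, hβ, eval_sub, eval_X, eval_C, sub_self, zero_mul] at h2
    exact zero_ne_one h2
  obtain ⟨m, hm, hmem⟩ := exists_max_ideal_of_mem_nonunits h
  exact ⟨m, hm.isPrime, hmem⟩

theorem count_roots_expand [CharZero k] {M : ℕ} (hM : 0 < M) (α β : k) (hα : α ≠ 0)
    (h : β ^ M = α) (P : k[X]) :
    (expand k M P).roots.count β = P.roots.count α := by
  rcases eq_or_ne P 0 with rfl | hP
  · simp
  rw [count_roots, count_roots]
  obtain ⟨Q, hQ, hQ0⟩ := exists_eq_pow_rootMultiplicity_mul_and_not_dvd P hP α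
  have hMk : (M : k) ≠ 0 := by exact_mod_cast hM.ne'
  have hsep : (X ^ M - C α : k[X]).Separable := separable_X_pow_sub_C α hMk hα
  have hne : (X ^ M - C α : k[X]) ≠ 0 := hsep.ne_zero
  have h1 : rootMultiplicity β (X ^ M - C α : k[X]) = 1 := by
    refine le_antisymm (rootMultiplicity_le_one_of_separable hsep β) ?_
    rw [Nat.one_le_iff_ne_zero, ← Nat.pos_iff_ne_zero, rootMultiplicity_pos hne, IsRoot.def,
      eval_sub, eval_pow, eval_X, eval_C, h, sub_self]
  have hQne : expand k M Q ≠ 0 := by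
    rw [expand_ne_zero hM]
    rintro rfl
    exact hQ0 (dvd_zero _)
  have h2 : rootMultiplicity β (expand k M Q) = 0 := by
    apply rootMultiplicity_eq_zero
    rw [IsRoot.def, expand_eval, h]
    intro h3
    exact hQ0 (dvd_iff_isRoot.2 h3)
  have hexp : expand k M P = (X ^ M - C α) ^ (rootMultiplicity α P) * expand k M Q := by
    conv_lhs => rw [hQ]
    rw [map_mul, map_pow, map_sub, expand_X, expand_C]
  rw [hexp, rootMultiplicity_mul (mul_ne_zero (pow_ne_zero _ hne) hQne), h2, add_zero,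
    ← count_roots, roots_pow, Multiset.count_nsmul, count_roots, h1, mul_one]

/-- The multiplicities of the nonzero roots of `P` are divisible by `n`. -/
theorem dvd_count [IsAlgClosed k] [CharZero k] (n : ℕ) {N : ℕ} (hN : 0 < N) (P : k[X])
    (hP : P ≠ 0) (h : ∀ q : Ideal (AddMonoidAlgebra k ℚ), q.IsPrime →
      ∃ a b u v : AddMonoidAlgebra k ℚ, b ≠ 0 ∧ u ∉ q ∧ v ∉ q ∧
        ev k N P * v * b ^ n = a ^ n * u) (α : k) (hα : α ≠ 0) : n ∣ P.roots.count α := by
  obtain ⟨q, hq, hmem⟩ := exists_prime k hN α hα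
  obtain ⟨a, b, u, v, hb, hu, hv, heq⟩ := h q hq
  obtain ⟨M', hM', ⟨M, rfl⟩, hlvl⟩ := exists_lvl k {a, b, u, v} N hN
  have hM : 0 < M := by
    rcases Nat.eq_zero_or_pos M with h0 | h0
    · subst h0; simp at hM'
    · exact h0
  obtain ⟨β, hβ, hβq⟩ := exists_root k hN hM q α hmem
  have hβ0 : β ≠ 0 := by
    rintro rfl
    rw [zero_pow hM.ne'] at hβ
    exact hα hβ.symm
  obtain ⟨sa, A, hA⟩ := exists_clear k (hlvl a (by simp))
  obtain ⟨sb, B, hB⟩ := exists_clear k (hlvl b (by simp))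
  obtain ⟨su, U, hU⟩ := exists_clear k (hlvl u (by simp))
  obtain ⟨sv, V, hV⟩ := exists_clear k (hlvl v (by simp))
  have hX := isUnit_ev_X k (N * M)
  have hXq : ∀ s : ℕ, ev k (N * M) X ^ s ∉ q := fun s hs =>
    hq.ne_top (Ideal.eq_top_of_isUnit_mem _ hs (hX.pow s))
  have hUq : ev k (N * M) U ∉ q := by
    rw [hU]
    intro h0
    exact (hq.mem_or_mem h0).elim hu (hXq su)
  have hVq : ev k (N * M) V ∉ q := by
    rw [hV]
    intro h0
    exact (hq.mem_or_mem h0).elim hv (hXq sv)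
  have hkey : expand k M P * V * B ^ n * X ^ (n * sa + su) = A ^ n * U * X ^ (sv + n * sb) := by
    apply ev_injective k hM'
    simp only [map_mul, map_pow]
    rw [ev_expand k hN hM, hV, hB, hA, hU]
    have : ev k N P * (v * ev k (N * M) X ^ sv) * (b * ev k (N * M) X ^ sb) ^ n *
        ev k (N * M) X ^ (n * sa + su) = (ev k N P * v * b ^ n) * ev k (N * M) X ^ (sv + n * sb) *
          ev k (N * M) X ^ (n * sa + su) := by ring
    rw [this, heq]
    ring
  have hB0 : B ≠ 0 := by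
    rintro rfl
    rw [map_zero] at hB
    rcases mul_eq_zero.1 hB.symm with h0 | h0
    · exact hb h0
    · exact (hX.pow sb).ne_zero h0
  have hU0 : U ≠ 0 := by
    rintro rfl
    exact hUq (by rw [map_zero]; exact zero_mem _)
  have hV0 : V ≠ 0 := by
    rintro rfl
    exact hVq (by rw [map_zero]; exact zero_mem _)
  have hE0 : expand k M P ≠ 0 := (expand_ne_zero hM).2 hP
  have hX0 : (X : k[X]) ≠ 0 := X_ne_zero
  have hL : expand k M P * V * B ^ n * X ^ (n * sa + su) ≠ 0 :=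
    mul_ne_zero (mul_ne_zero (mul_ne_zero hE0 hV0) (pow_ne_zero _ hB0)) (pow_ne_zero _ hX0)
  have hR : A ^ n * U * X ^ (sv + n * sb) ≠ 0 := hkey ▸ hL
  have hcU : U.roots.count β = 0 := by
    rw [count_roots]
    exact rootMultiplicity_eq_zero (eval_ne_zero k q β hβq U hUq)
  have hcV : V.roots.count β = 0 := by
    rw [count_roots]
    exact rootMultiplicity_eq_zero (eval_ne_zero k q β hβq V hVq)
  have h1 : (expand k M P * V * B ^ n * X ^ (n * sa + su)).roots.count β =
      (A ^ n * U * X ^ (sv + n * sb)).roots.count β := by rw [hkey]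
  rw [roots_mul hL, roots_mul (left_ne_zero_of_mul hL),
    roots_mul (left_ne_zero_of_mul (left_ne_zero_of_mul hL)), roots_mul hR,
    roots_mul (left_ne_zero_of_mul hR)] at h1
  have hcX1 : (X : k[X]).roots.count β = 0 := by
    rw [roots_X, Multiset.count_singleton, if_neg hβ0]
  simp only [Multiset.count_add, hcU, hcV, hcX1, mul_zero, roots_pow, Multiset.count_nsmul,
    add_zero] at h1
  rw [count_roots_expand k hM α β hα hβ P] at h1
  exact (Nat.dvd_add_iff_left (Dvd.intro _ rfl)).2 (h1 ▸ Dvd.intro _ rfl)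

/-- `ev k N P` is an `n`-th power. -/
theorem exists_pow_ev [IsAlgClosed k] (n : ℕ) (hn : 0 < n) {N : ℕ} (hN : 0 < N) (P : k[X])
    (h : ∀ α : k, α ≠ 0 → n ∣ P.roots.count α) : ∃ e, e ^ n = ev k N P := by
  let S : Submonoid (AddMonoidAlgebra k ℚ) := MonoidHom.mrange (powMonoidHom n)
  change ev k N P ∈ S
  have h1 : P.Splits := IsAlgClosed.splits _
  rw [h1.eq_prod_roots, map_mul, Finset.prod_multiset_map_count, map_prod]
  refine S.mul_mem ?_ (S.prod_mem fun α _ => ?_)
  · obtain ⟨c, hc⟩ := IsAlgClosed.exists_pow_nat_eq P.leadingCoeff hn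
    refine ⟨ev k N (C c), ?_⟩
    change ev k N (C c) ^ n = _
    rw [← map_pow, ← C_pow, hc]
  · rw [map_pow]
    by_cases hα : α = 0
    · subst hα
      refine S.pow_mem ?_ _
      rw [C_0, sub_zero, ev_X]
      refine ⟨AddMonoidAlgebra.single (1 / (N : ℚ) / n) 1, ?_⟩
      change AddMonoidAlgebra.single (1 / (N : ℚ) / n) (1 : k) ^ n = _
      rw [AddMonoidAlgebra.single_pow, one_pow]
      congr 1
      have hn' : (n : ℚ) ≠ 0 := by positivity
      rw [nsmul_eq_mul]
      field_simp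
    · obtain ⟨c, hc⟩ := h α hα
      refine ⟨ev k N (X - C α) ^ c, ?_⟩
      change (ev k N (X - C α) ^ c) ^ n = _
      rw [← pow_mul, hc, mul_comm]

theorem exists_root_X (n : ℕ) (hn : 0 < n) (N : ℕ) :
    ∃ r : AddMonoidAlgebra k ℚ, r ^ n = ev k N X := by
  refine ⟨AddMonoidAlgebra.single (1 / (N : ℚ) / n) 1, ?_⟩
  rw [ev_X, AddMonoidAlgebra.single_pow, one_pow]
  congr 1
  have hn' : (n : ℚ) ≠ 0 := by positivity
  rw [nsmul_eq_mul]
  field_simp

theorem root [IsAlgClosed k] [CharZero k] (n : ℕ) (hn : 0 < n)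
    (f : FractionRing (AddMonoidAlgebra k ℚ)) (hf : f ≠ 0)
    (h : ∀ q : Ideal (AddMonoidAlgebra k ℚ), q.IsPrime →
      ∃ (g : FractionRing (AddMonoidAlgebra k ℚ)) (u v : AddMonoidAlgebra k ℚ), u ∉ q ∧ v ∉ q ∧
        f * algebraMap (AddMonoidAlgebra k ℚ) (FractionRing (AddMonoidAlgebra k ℚ)) v =
          g ^ n * algebraMap (AddMonoidAlgebra k ℚ) (FractionRing (AddMonoidAlgebra k ℚ)) u) :
    ∃ g : FractionRing (AddMonoidAlgebra k ℚ), f = g ^ n := by
  let D := AddMonoidAlgebra k ℚ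
  let K := FractionRing D
  let i : D →+* K := algebraMap D K
  have hi : Function.Injective i := IsFractionRing.injective D K
  obtain ⟨x, y, hy, rfl⟩ := IsFractionRing.div_surjective (A := D) f
  have hy0 : y ≠ 0 := nonZeroDivisors.ne_zero hy
  have hiy : i y ≠ 0 := (map_ne_zero_iff i hi).2 hy0
  have hix : i x ≠ 0 := by
    intro h0
    apply hf
    change i x / i y = 0
    rw [h0, zero_div]
  have hx0 : x ≠ 0 := fun h0 => hix (by rw [h0, map_zero])
  obtain ⟨m, rfl⟩ : ∃ m, n = m + 1 := ⟨n - 1, by omega⟩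
  obtain ⟨N, hN, -, hmem⟩ := exists_lvl k {x * y ^ m} 1 one_pos
  obtain ⟨s, P, hP⟩ := exists_clear k (hmem _ (Finset.mem_singleton_self _))
  obtain ⟨r, hr⟩ := exists_root_X k (m + 1) hn N
  have hXu := isUnit_ev_X k N
  have hr0 : r ≠ 0 := by
    rintro rfl
    rw [zero_pow (by omega)] at hr
    exact hXu.ne_zero hr.symm
  have hir : i r ≠ 0 := (map_ne_zero_iff i hi).2 hr0
  have hP0 : P ≠ 0 := by
    rintro rfl
    rw [map_zero] at hP
    rcases mul_eq_zero.1 hP.symm with h0 | h0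
    · exact (mul_ne_zero hx0 (pow_ne_zero _ hy0)) h0
    · exact (hXu.pow s).ne_zero h0
  -- the relation between `f` and `P`
  have hfP : i x / i y * (i y * i r ^ s) ^ (m + 1) = i (ev k N P) := by
    rw [hP, ← hr, map_mul, map_mul, map_pow, map_pow, map_pow]
    calc i x / i y * (i y * i r ^ s) ^ (m + 1)
        = (i x / i y * i y) * i y ^ m * (i r ^ (m + 1)) ^ s := by ring
      _ = _ := by rw [div_mul_cancel₀ _ hiy]
  have hdvd : ∀ α : k, α ≠ 0 → (m + 1) ∣ P.roots.count α := by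
    refine dvd_count k (m + 1) hN P hP0 fun q hq => ?_
    obtain ⟨g, u, v, hu, hv, hguv⟩ := h q hq
    obtain ⟨a, b, hb, hab⟩ := IsFractionRing.div_surjective (A := D) (g * (i y * i r ^ s))
    have hb0 : b ≠ 0 := nonZeroDivisors.ne_zero hb
    have hib : i b ≠ 0 := (map_ne_zero_iff i hi).2 hb0
    refine ⟨a, b, u, v, hb0, hu, hv, hi ?_⟩
    rw [map_mul, map_mul, map_mul, map_pow, map_pow, ← hfP]
    have hguv' : i x / i y * i v = g ^ (m + 1) * i u := hguv
    have hab' : i a / i b = g * (i y * i r ^ s) := hab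
    have hab2 : i a = g * (i y * i r ^ s) * i b := by
      rw [← hab', div_mul_cancel₀ _ hib]
    rw [hab2]
    calc i x / i y * (i y * i r ^ s) ^ (m + 1) * i v * i b ^ (m + 1)
        = (i x / i y * i v) * ((i y * i r ^ s) ^ (m + 1) * i b ^ (m + 1)) := by ring
      _ = _ := by rw [hguv']; ring
  obtain ⟨e, he⟩ := exists_pow_ev k (m + 1) hn hN P hdvd
  refine ⟨i e / (i y * i r ^ s), ?_⟩
  have h3 : (i y * i r ^ s) ≠ 0 := mul_ne_zero hiy (pow_ne_zero _ hir)
  rw [div_pow, ← map_pow, he, ← hfP]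
  change i x / i y = _
  rw [mul_div_assoc, div_self (pow_ne_zero _ h3), mul_one]

end Groth.Agent.Sga7.H144.KQRoot
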