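import Groth.Agent.Sga7.H144.KQInd
import Groth.Agent.Sga7.H144.KQRoot
import Groth.Agent.EtpbcB.SBCKummer
import Groth.Agent.EtpbcB.SBCCurve
import Groth.Agent.EtpbcB.IndEtNormal
import Groth.Agent.EtpbcB.TorsionBasic
import Groth.Agent.CurvesA.MuConst

/-!
# The étale cohomology of `Spec k[ℚ]`

`k` algebraically closed of characteristic zero: the universal Kummer tower `Spec k[ℚ]` of `𝔾_m` is
connected and has no higher étale cohomology with coefficients `ℤ/n`.
-/

set_option autoImplicit false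
universe u

open CategoryTheory CategoryTheory.Limits AlgebraicGeometry

namespace Groth.Agent.Sga7.H144.TowerRing

variable (k : Type u) [Field k]

theorem isIntegrallyClosed [CharZero k] : IsIntegrallyClosed (AddMonoidAlgebra k ℚ) := by
  let _ := KQInd.ratAlg k
  exact EtpbcB.IndEtNormal.isIntegrallyClosed_of_isIndEtale_polynomial k (AddMonoidAlgebra k ℚ)
    (KQInd.isIndEtale k)

instance connectedSpace : ConnectedSpace (Spec (CommRingCat.of (AddMonoidAlgebra k ℚ))) := by
  have : IsDomain (CommRingCat.of (AddMonoidAlgebra k ℚ)) := KQBasic.isDomain k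
  infer_instance

theorem H_one [IsAlgClosed k] [CharZero k] (n : ℕ) (hn : 0 < n) :
    Subsingleton (EtCoh.H (Spec (CommRingCat.of (AddMonoidAlgebra k ℚ)))
      (EtCoh.const (Spec (CommRingCat.of (AddMonoidAlgebra k ℚ))) (ZMod n)) 1) := by
  have hint := isIntegrallyClosed k
  have hnk : (n : k) ≠ 0 := by exact_mod_cast hn.ne'
  have hu : IsUnit (n : AddMonoidAlgebra k ℚ) := by
    have h1 := hnk.isUnit.map (algebraMap k (AddMonoidAlgebra k ℚ))
    rwa [map_natCast] at h1
  have h1 : Subsingleton (EtCoh.H (Spec (CommRingCat.of (AddMonoidAlgebra k ℚ)))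
      (EtCoh.mu (Spec (CommRingCat.of (AddMonoidAlgebra k ℚ))) n) 1) :=
    EtpbcB.SBCKummer.kummer (AddMonoidAlgebra k ℚ) n hn hu (KQRoot.root k n hn)
  obtain ⟨e⟩ := CurvesA.MuConst.nonempty_iso_const_mu_of_isSepClosed k n hnk
    (Spec.map (CommRingCat.ofHom (algebraMap k (AddMonoidAlgebra k ℚ))))
  exact ((EtCoh.HF _ 1).mapIso e).addCommGroupIsoToAddEquiv.toEquiv.subsingleton_congr.2 h1

/-- `H^q(Spec k[ℚ], ℤ/n) = 0` for `q > 0`. -/
theorem H_towerRing [IsAlgClosed k] [CharZero k] (n : ℕ) (hn : 0 < n) (q : ℕ) (hq : 0 < q) :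
    Subsingleton (EtCoh.H (Spec (CommRingCat.of (AddMonoidAlgebra k ℚ)))
      (EtCoh.const (Spec (CommRingCat.of (AddMonoidAlgebra k ℚ))) (ZMod n)) q) := by
  rcases Nat.eq_or_lt_of_le (Nat.succ_le_of_lt hq) with h | h
  · have : q = 1 := h.symm
    subst this
    exact H_one k n hn
  · let _ := KQInd.ratAlg k
    have := KQInd.isScalarTower k
    let a := Spec.map (CommRingCat.ofHom (algebraMap k (AddMonoidAlgebra k ℚ)))
    have h1 := EtpbcB.SBCCurve.curveDegTwo k (AddMonoidAlgebra k ℚ) (KQInd.isIndEtale k) n hn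
      (EtCoh.const _ (ZMod n)) (EtpbcB.TorsionBasic.killedBy_const _ _ (fun m => by
        rw [nsmul_eq_mul, ZMod.natCast_self, zero_mul])) q h
    let e : (EtCoh.pull a).obj (EtCoh.const _ (ZMod n)) ≅ EtCoh.const _ (ZMod n) :=
      EtCore.pullConst a (ZMod n)
    exact ((EtCoh.HF _ q).mapIso e).addCommGroupIsoToAddEquiv.toEquiv.subsingleton_congr.1 h1

end Groth.Agent.Sga7.H144.TowerRing
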