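import Mathlib.Algebra.Polynomial.Laurent
import Mathlib.Algebra.Polynomial.Expand
import Mathlib.FieldTheory.Separable
import Mathlib.FieldTheory.IsAlgClosed.Basic
import Mathlib.Algebra.MonoidAlgebra.NoZeroDivisors
import Mathlib.Algebra.Group.UniqueProds.Basic
import Mathlib.Algebra.Order.Ring.Rat
import Mathlib.Data.Rat.Lemmas

/-!
# The ring `k[ℚ]` as a directed union of Laurent polynomial rings

* `lvl k N : LaurentPolynomial k →ₐ[k] AddMonoidAlgebra k ℚ`, `T ↦ single (1/N) 1`, injective for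
  `N ≠ 0`;
* `exists_lvl`: finitely many elements lie in the range of some `lvl k N` with `N₀ ∣ N`.
-/

set_option autoImplicit false
universe u

open Polynomial

namespace Groth.Agent.Sga7.H144.KQBasic

variable (k : Type u) [Field k]

/-- `m ↦ m / N`. -/
noncomputable def divHom (N : ℕ) : ℤ →+ ℚ where
  toFun m := (m : ℚ) / N
  map_zero' := by simp
  map_add' a b := by push_cast; ring

theorem divHom_apply (N : ℕ) (m : ℤ) : divHom N m = (m : ℚ) / N := rfl

theorem divHom_injective {N : ℕ} (hN : 0 < N) : Function.Injective (divHom N) := by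
  intro a b h
  rw [divHom_apply, divHom_apply] at h
  have hN' : (N : ℚ) ≠ 0 := by positivity
  have h2 : (a : ℚ) = b := by field_simp at h; exact h
  exact_mod_cast h2

/-- `k[T;T⁻¹] → k[ℚ]`, `T ↦ X^{1/N}`. -/
noncomputable def lvl (N : ℕ) : LaurentPolynomial k →ₐ[k] AddMonoidAlgebra k ℚ :=
  AddMonoidAlgebra.mapDomainAlgHom k k (divHom N)

theorem lvl_single (N : ℕ) (m : ℤ) (a : k) :
    lvl k N (AddMonoidAlgebra.single m a) = AddMonoidAlgebra.single ((m : ℚ) / N) a :=
  AddMonoidAlgebra.mapDomain_single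

theorem lvl_T (N : ℕ) (m : ℤ) :
    lvl k N (LaurentPolynomial.T m) = AddMonoidAlgebra.single ((m : ℚ) / N) 1 :=
  lvl_single k N m 1

theorem lvl_injective {N : ℕ} (hN : 0 < N) : Function.Injective (lvl k N) :=
  AddMonoidAlgebra.mapDomain_injective (divHom_injective hN)

theorem range_le {N M : ℕ} (h : N ∣ M) (hM : 0 < M) : (lvl k N).range ≤ (lvl k M).range := by
  rintro _ ⟨x, rfl⟩
  obtain ⟨c, rfl⟩ := h
  have hN : 0 < N := by
    rcases Nat.eq_zero_or_pos N with h0 | h0
    · subst h0; simp at hM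
    · exact h0
  have hc : 0 < c := by
    rcases Nat.eq_zero_or_pos c with h0 | h0
    · subst h0; simp at hM
    · exact h0
  induction x using AddMonoidAlgebra.induction_linear with
  | zero => rw [map_zero]; exact zero_mem _
  | add f g hf hg => rw [map_add]; exact add_mem hf hg
  | single m a =>
    refine ⟨AddMonoidAlgebra.single (m * c) a, ?_⟩
    change lvl k (N * c) _ = lvl k N _
    rw [lvl_single, lvl_single]
    congr 1
    push_cast
    have hN' : (N : ℚ) ≠ 0 := by positivity
    have hc' : (c : ℚ) ≠ 0 := by positivity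
    field_simp

/-- Every element of `k[ℚ]` lies in some `k[(1/N)ℤ]`. -/
theorem exists_mem_range (x : AddMonoidAlgebra k ℚ) : ∃ N : ℕ, 0 < N ∧ x ∈ (lvl k N).range := by
  induction x using AddMonoidAlgebra.induction_linear with
  | zero => exact ⟨1, one_pos, zero_mem _⟩
  | add f g hf hg =>
    obtain ⟨N, hN, hf⟩ := hf
    obtain ⟨M, hM, hg⟩ := hg
    have h : 0 < N * M := Nat.mul_pos hN hM
    exact ⟨N * M, h, add_mem (range_le k (Dvd.intro _ rfl) h hf)
      (range_le k (Dvd.intro_left _ rfl) h hg)⟩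
  | single q a =>
    refine ⟨q.den, q.den_pos, AddMonoidAlgebra.single q.num a, ?_⟩
    change lvl k q.den _ = _
    rw [lvl_single, Rat.num_div_den]

theorem exists_lvl (S : Finset (AddMonoidAlgebra k ℚ)) (N₀ : ℕ) (hN₀ : 0 < N₀) :
    ∃ N : ℕ, 0 < N ∧ N₀ ∣ N ∧ ∀ x ∈ S, x ∈ (lvl k N).range := by
  classical
  induction S using Finset.induction_on with
  | empty => exact ⟨N₀, hN₀, dvd_rfl, by simp⟩
  | insert a S ha ih =>
    obtain ⟨N, hN, h0, hS⟩ := ih
    obtain ⟨M, hM, hx⟩ := exists_mem_range k a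
    have h : 0 < N * M := Nat.mul_pos hN hM
    refine ⟨N * M, h, h0.mul_right M, fun x hxS => ?_⟩
    rcases Finset.mem_insert.1 hxS with rfl | hxS
    · exact range_le k (Dvd.intro_left _ rfl) h hx
    · exact range_le k (Dvd.intro _ rfl) h (hS x hxS)

theorem isDomain : IsDomain (AddMonoidAlgebra k ℚ) := inferInstance

end Groth.Agent.Sga7.H144.KQBasic
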