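import Mathlib.Algebra.Polynomial.Laurent
import Mathlib.RingTheory.Etale.Basic
import Mathlib.RingTheory.Nilpotent.Basic
import Mathlib.RingTheory.FiniteType
import Mathlib.RingTheory.FinitePresentation
import Mathlib.RingTheory.Polynomial.Basic

/-!
# `k[X] → k[T;T⁻¹]`, `X ↦ T^N`, is étale when `N` is invertible
-/

set_option autoImplicit false
universe u v

open Polynomial

namespace Groth.Agent.Sga7.H144.KQEtale

/-- the algebra structure `X ↦ T^N` -/
@[reducible]
noncomputable def powAlg (k : Type u) [CommRing k] (N : ℕ) :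
    Algebra k[X] (LaurentPolynomial k) :=
  (Polynomial.aeval (R := k) (LaurentPolynomial.T (N : ℤ) : LaurentPolynomial k)).toAlgebra

section lift

variable {B : Type v} [CommRing B] {I : Ideal B} {N : ℕ}

theorem pow_add_of_sq_zero (t ε : B) (h : ε ^ 2 = 0) (n : ℕ) :
    (t + ε) ^ n = t ^ n + n * t ^ (n - 1) * ε := by
  induction n with
  | zero => simp
  | succ n ih =>
    rw [pow_succ, ih]
    rcases n with _ | n
    · simp
    · simp only [Nat.add_sub_cancel]
      push_cast
      have h2 : ε * ε = 0 := by rw [← sq, h]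
      linear_combination ((n : B) + 1) * t ^ n * h2

/-- uniqueness of `N`-th roots with given reduction -/
theorem eq_of_pow_eq (hI : I ^ 2 = ⊥) (hN : IsUnit (N : B)) (t s : B) (ht : IsUnit t)
    (h : t ^ N = s ^ N) (hts : s - t ∈ I) : t = s := by
  have hε : (s - t) ^ 2 = 0 := by
    have : (s - t) ^ 2 ∈ I ^ 2 := Ideal.pow_mem_pow hts 2
    rwa [hI, Ideal.mem_bot] at this
  have h1 := pow_add_of_sq_zero t (s - t) hε N
  rw [add_sub_cancel, ← h, left_eq_add] at h1
  have h2 : IsUnit ((N : B) * t ^ (N - 1)) := hN.mul (ht.pow _)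
  have h3 : s - t = 0 := (h2.mul_right_eq_zero).1 h1
  exact (sub_eq_zero.1 h3).symm

/-- existence of `N`-th roots with given reduction -/
theorem exists_pow_eq (hI : I ^ 2 = ⊥) (hN : IsUnit (N : B)) (t x : B) (ht : IsUnit t)
    (h : x - t ^ N ∈ I) : ∃ s : B, s ^ N = x ∧ s - t ∈ I := by
  have h2 : IsUnit ((N : B) * t ^ (N - 1)) := hN.mul (ht.pow _)
  obtain ⟨w, hw⟩ := h2.exists_right_inv
  refine ⟨t + w * (x - t ^ N), ?_, ?_⟩
  · have hε : (w * (x - t ^ N)) ^ 2 = 0 := by
      have : (w * (x - t ^ N)) ^ 2 ∈ I ^ 2 := Ideal.pow_mem_pow (I.mul_mem_left _ h) 2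
      rwa [hI, Ideal.mem_bot] at this
    rw [pow_add_of_sq_zero _ _ hε]
    linear_combination (x - t ^ N) * hw
  · rw [add_sub_cancel_left]
    exact I.mul_mem_left _ h

theorem isUnit_of_quot (hI : I ^ 2 = ⊥) (t : B) (ht : IsUnit (Ideal.Quotient.mk I t)) : IsUnit t := by
  obtain ⟨w, hw⟩ := ht.exists_right_inv
  obtain ⟨w, rfl⟩ := Ideal.Quotient.mk_surjective w
  rw [← map_mul, ← map_one (Ideal.Quotient.mk I), Ideal.Quotient.eq] at hw
  have h : IsNilpotent (t * w - 1) := ⟨2, by
    have : (t * w - 1) ^ 2 ∈ I ^ 2 := Ideal.pow_mem_pow hw 2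
    rwa [hI, Ideal.mem_bot] at this⟩
  have h2 : IsUnit (t * w) := by
    have := h.isUnit_add_one
    rwa [sub_add_cancel] at this
  exact isUnit_of_mul_isUnit_left h2

end lift

section

variable (k : Type u) [CommRing k] (N : ℕ)

theorem ringHom_ext' {E : Type v} [CommRing E] (f g : LaurentPolynomial k →+* E)
    (hC : ∀ a : k, f (LaurentPolynomial.C a) = g (LaurentPolynomial.C a))
    (h : f (LaurentPolynomial.T 1) = g (LaurentPolynomial.T 1)) : f = g := by
  refine IsLocalization.ringHom_ext (M := Submonoid.powers (X : k[X])) ?_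
  refine Polynomial.ringHom_ext ?_ ?_
  · intro a
    change f (Polynomial.toLaurent (C a)) = g (Polynomial.toLaurent (C a))
    rw [Polynomial.toLaurent_C]
    exact hC a
  · change f (Polynomial.toLaurent X) = g (Polynomial.toLaurent X)
    rw [Polynomial.toLaurent_X]
    exact h

theorem finiteType : Algebra.FiniteType k (LaurentPolynomial k) := by
  exact AddMonoidAlgebra.finiteType_of_fg k ℤ

/-- Two `k[X]`-algebra homs out of `k[T;T⁻¹]` agreeing at `T` are equal. -/
theorem hom_ext' {E : Type v} [CommRing E] [Algebra k[X] E]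
    (f g : letI := powAlg k N; LaurentPolynomial k →ₐ[k[X]] E)
    (h : letI := powAlg k N; f (LaurentPolynomial.T 1) = g (LaurentPolynomial.T 1)) : f = g := by
  let _ := powAlg k N
  have hC : ∀ a : k, f (LaurentPolynomial.C a) = g (LaurentPolynomial.C a) := by
    intro a
    have h1 : (LaurentPolynomial.C a : LaurentPolynomial k) =
        algebraMap k[X] (LaurentPolynomial k) (Polynomial.C a) := by
      change _ = Polynomial.aeval _ (Polynomial.C a)
      rw [Polynomial.aeval_C, LaurentPolynomial.C_eq_algebraMap]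
    rw [h1, f.commutes, g.commutes]
  have key := ringHom_ext' k (f : LaurentPolynomial k →+* E) g hC h
  exact AlgHom.coe_ringHom_injective key

/-- The `k[X]`-algebra hom `T ↦ s` with `s ^ N` = the image of `X`. -/
theorem exists_hom {E : Type v} [CommRing E] [Algebra k[X] E] (s : E) (hs : IsUnit s)
    (h : s ^ N = algebraMap k[X] E X) :
    letI := powAlg k N
    ∃ f : LaurentPolynomial k →ₐ[k[X]] E, f (LaurentPolynomial.T 1) = s := by
  let _ := powAlg k N
  obtain ⟨s, rfl⟩ := hs
  let φ : k →+* E := (algebraMap k[X] E).comp Polynomial.C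
  let f : LaurentPolynomial k →+* E := LaurentPolynomial.eval₂ φ s
  refine ⟨{ toRingHom := f, commutes' := ?_ }, ?_⟩
  · intro p
    have : f.comp (algebraMap k[X] (LaurentPolynomial k)) = algebraMap k[X] E := by
      refine Polynomial.ringHom_ext ?_ ?_
      · intro a
        change f (Polynomial.aeval _ (Polynomial.C a)) = _
        rw [Polynomial.aeval_C, ← LaurentPolynomial.C_eq_algebraMap]
        exact LaurentPolynomial.eval₂_C φ s a
      · change f (Polynomial.aeval _ X) = _
        rw [Polynomial.aeval_X]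
        exact (LaurentPolynomial.eval₂_T_n φ s N).trans h
    exact congrArg (fun F : k[X] →+* E => F p) this
  · change f (LaurentPolynomial.T 1) = s
    have := LaurentPolynomial.eval₂_T_n φ s 1
    rw [pow_one] at this
    exact this

theorem etale (hN : IsUnit (N : k)) [IsNoetherianRing k] :
    letI := powAlg k N
    Algebra.Etale k[X] (LaurentPolynomial k) := by
  have hft : Algebra.FiniteType k (LaurentPolynomial k) := finiteType k
  let _ := powAlg k N
  have htower : IsScalarTower k k[X] (LaurentPolynomial k) :=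
    IsScalarTower.of_algebraMap_eq fun a => by
      change _ = Polynomial.aeval _ (algebraMap k k[X] a)
      rw [AlgHom.commutes]
  have hft2 : Algebra.FiniteType k[X] (LaurentPolynomial k) :=
    Algebra.FiniteType.of_restrictScalars_finiteType k k[X] (LaurentPolynomial k)
  have hfp : Algebra.FinitePresentation k[X] (LaurentPolynomial k) :=
    Algebra.FinitePresentation.of_finiteType.1 hft2
  have hfe : Algebra.FormallyEtale k[X] (LaurentPolynomial k) := by
    rw [Algebra.FormallyEtale.iff_comp_bijective]
    intro B _ _ I hI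
    have hNB : IsUnit (N : B) := by
      have h1 : IsUnit ((algebraMap k[X] B).comp C (N : k)) := hN.map _
      rwa [map_natCast] at h1
    have hTN : ∀ {C' : Type u} [CommRing C'] [Algebra k[X] C']
        (f : LaurentPolynomial k →ₐ[k[X]] C'),
        f (LaurentPolynomial.T 1) ^ N = algebraMap k[X] C' X := by
      intro C' _ _ f
      rw [← map_pow, LaurentPolynomial.T_pow, ← f.commutes]
      congr 1
      change _ = Polynomial.aeval _ X
      rw [Polynomial.aeval_X, mul_one]
    have hTu : ∀ {C' : Type u} [CommRing C'] [Algebra k[X] C']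
        (f : LaurentPolynomial k →ₐ[k[X]] C'), IsUnit (f (LaurentPolynomial.T 1)) := by
      intro C' _ _ f
      exact (LaurentPolynomial.isUnit_T 1).map f
    constructor
    · intro f g hfg
      refine hom_ext' k N f g ?_
      refine eq_of_pow_eq (N := N) hI hNB _ _ (hTu f) ((hTN f).trans (hTN g).symm) ?_
      have h1 := congrArg (fun F : LaurentPolynomial k →ₐ[k[X]] B ⧸ I => F (LaurentPolynomial.T 1)) hfg
      exact (Ideal.Quotient.eq).1 h1.symm
    · intro f
      obtain ⟨t, ht⟩ := Ideal.Quotient.mk_surjective (f (LaurentPolynomial.T 1))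
      have htu : IsUnit t := isUnit_of_quot hI t (by rw [ht]; exact hTu f)
      obtain ⟨s, hs, hst⟩ := exists_pow_eq (N := N) hI hNB t (algebraMap k[X] B X) htu (by
        rw [← Ideal.Quotient.eq, map_pow, ht, hTN f]
        rfl)
      have hsu : IsUnit s := isUnit_of_quot hI s (by
        rw [(Ideal.Quotient.eq).2 hst, ht]; exact hTu f)
      obtain ⟨g, hg⟩ := exists_hom k N s hsu hs
      refine ⟨g, hom_ext' k N _ _ ?_⟩
      change Ideal.Quotient.mk I (g _) = _
      rw [hg, (Ideal.Quotient.eq).2 hst, ht]
  exact { formallyEtale := hfe, finitePresentation := hfp }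

end

end Groth.Agent.Sga7.H144.KQEtale
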