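import Groth.Agent.Sga7.H144.KQBasic
import Groth.Agent.Sga7.H144.KQEtale
import Groth.Agent.Proet.IndEtale

/-!
# `k[X] → k[ℚ]` is ind-étale (`k` a field of characteristic zero)
-/

set_option autoImplicit false
universe u

open Polynomial

namespace Groth.Agent.Sga7.H144.KQInd

open KQBasic KQEtale

/-- the algebra structure `X ↦ single 1 1` -/
@[reducible]
noncomputable def ratAlg (k : Type u) [CommRing k] :
    Algebra k[X] (AddMonoidAlgebra k ℚ) :=
  (Polynomial.aeval (R := k) (AddMonoidAlgebra.single (1 : ℚ) (1 : k))).toAlgebra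

theorem isScalarTower (k : Type u) [CommRing k] :
    letI := ratAlg k
    IsScalarTower k k[X] (AddMonoidAlgebra k ℚ) := by
  let _ := ratAlg k
  refine IsScalarTower.of_algebraMap_eq fun a => ?_
  change _ = Polynomial.aeval _ (algebraMap k k[X] a)
  rw [AlgHom.commutes]

variable (k : Type u) [Field k]

theorem lvl_algebraMap {N : ℕ} (hN : 0 < N) (p : k[X]) :
    lvl k N (letI := powAlg k N; algebraMap k[X] (LaurentPolynomial k) p) =
      (letI := ratAlg k; algebraMap k[X] (AddMonoidAlgebra k ℚ) p) := by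
  change lvl k N (Polynomial.aeval _ p) = Polynomial.aeval _ p
  rw [← Polynomial.aeval_algHom_apply, lvl_T]
  congr 3
  have hN' : (N : ℚ) ≠ 0 := by positivity
  push_cast
  field_simp

/-- `lvl k N` as a `k[X]`-algebra hom. -/
noncomputable def lvlX {N : ℕ} (hN : 0 < N) :
    letI := powAlg k N
    letI := ratAlg k
    LaurentPolynomial k →ₐ[k[X]] AddMonoidAlgebra k ℚ :=
  letI := powAlg k N
  letI := ratAlg k
  { toRingHom := (lvl k N : LaurentPolynomial k →+* AddMonoidAlgebra k ℚ)
    commutes' := fun p => lvl_algebraMap k hN p }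

theorem isIndEtale [CharZero k] :
    letI := ratAlg k
    EtPBC.IsIndEtale k[X] (AddMonoidAlgebra k ℚ) := by
  classical
  let _ := ratAlg k
  rw [Proet.IndEtale.isIndEtale_iff_factor]
  intro Z _ _ hZ g
  have hft : Algebra.FiniteType k[X] Z := inferInstance
  obtain ⟨S, hS⟩ := hft.out
  obtain ⟨N, hN, -, hmem⟩ := exists_lvl k (S.image g) 1 one_pos
  let _ := powAlg k N
  let j := lvlX k hN
  have hj : Function.Injective j := lvl_injective k hN
  have hrange : g.range ≤ j.range := by
    rw [← Algebra.map_top, ← hS, AlgHom.map_adjoin, Algebra.adjoin_le_iff]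
    rintro _ ⟨z, hz, rfl⟩
    obtain ⟨w, hw⟩ := hmem (g z) (Finset.mem_image_of_mem g hz)
    exact ⟨w, hw⟩
  have hNk : IsUnit (N : k) := by
    have : (N : k) ≠ 0 := by exact_mod_cast hN.ne'
    exact this.isUnit
  refine ⟨LaurentPolynomial k, inferInstance, powAlg k N,
    (AlgEquiv.ofInjective j hj).symm.toAlgHom.comp ((Subalgebra.inclusion hrange).comp g.rangeRestrict),
    j, etale k N hNk, ?_⟩
  apply AlgHom.ext
  intro z
  have h1 := (AlgEquiv.ofInjective j hj).apply_symm_apply
    ((Subalgebra.inclusion hrange) (g.rangeRestrict z))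
  exact congrArg Subtype.val h1

end Groth.Agent.Sga7.H144.KQInd
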